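import Groth.Agent.Lib.Helper6.CoskHtpy.Main

set_option linter.unusedSectionVars false
set_option linter.unusedVariables false
set_option linter.unusedSimpArgs false
set_option autoImplicit false
set_option linter.style.haveILetI false
set_option maxHeartbeats 400000

noncomputable section

namespace Groth.Agent.Lib.Helper6.Hyper

open CategoryTheory Limits SimplexCategory Simplicial Opposite SimplicialObject Functor
open Groth.Agent.Lib.Helper6.CoskHtpy

universe v u

variable {E : Type u} [Category.{v} E] [HasFiniteLimits E]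

section General

variable (n : ℕ)
  [∀ (F : (SimplexCategory.Truncated n)ᵒᵖ ⥤ E),
    (SimplexCategory.Truncated.inclusion n).op.HasRightKanExtension F]

/-- The unit of the coskeleton adjunction followed by a projection. -/
lemma unit_pr (K : SimplicialObject E) {Δ : SimplexCategoryᵒᵖ}
    (A : StructuredArrow Δ (Lf n)) :
    ((coskAdj n).unit.app K).app Δ ≫ pr n K A = K.map A.hom := by
  unfold pr
  rw [← Category.assoc, ← ((coskAdj n).unit.app K).naturality A.hom, Category.assoc]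
  have h := (coskAdj n).left_triangle_components K
  have h2 := congr_app h A.right
  have h3 : ((coskAdj n).unit.app K).app ((Lf n).obj A.right) ≫ (eps n K).app A.right = 𝟙 _ := h2
  erw [h3, Category.comp_id]
  rfl

end General

section Zero

variable [∀ (F : (SimplexCategory.Truncated 0)ᵒᵖ ⥤ E),
    (SimplexCategory.Truncated.inclusion 0).op.HasRightKanExtension F]
  (K : SimplicialObject E)

/-- The two vertices of `Δ[1]` as structured arrows. -/
def vtx (i : Fin 2) : StructuredArrow (op ⦋1⦌) (Lf 0) :=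
  StructuredArrow.mk (Y := op (⟨⦋0⦌, by simp⟩ : SimplexCategory.Truncated 0))
    (SimplexCategory.const ⦋0⦌ ⦋1⦌ i).op

lemma comp_const0 {Δ₁ Δ₂ : SimplexCategory} (τ : Δ₂ ⟶ Δ₁) :
    τ ≫ SimplexCategory.const Δ₁ ⦋0⦌ 0 = SimplexCategory.const Δ₂ ⦋0⦌ 0 := by
  apply SimplexCategory.Hom.ext
  apply OrderHom.ext
  funext k
  rfl

/-- The cone defining the map into `(cosk_0 K)_1` with given vertices. -/
def cone0 {T : E} (a b : T ⟶ K.obj (op ⦋0⦌)) :
    Cone (StructuredArrow.proj (op ⦋1⦌) (Lf 0) ⋙ (Lf 0 ⋙ K)) where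
  pt := T
  π :=
    { app := fun A => (if A.hom.unop.toOrderHom 0 = 0 then a else b) ≫
        K.map (SimplexCategory.const A.right.unop.obj ⦋0⦌ 0).op
      naturality := fun A B u => by
        have hw : A.hom ≫ (Lf 0).map u.right = B.hom := StructuredArrow.w u
        have hA : (A.right.unop.obj).len ≤ 0 := A.right.unop.property
        have hsub : ∀ x : Fin (A.right.unop.obj.len + 1), x = 0 := by
          intro x; apply Fin.ext; have := x.2; simp only [Fin.val_zero]; omega
        have hv : B.hom.unop.toOrderHom 0 = A.hom.unop.toOrderHom 0 := by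
          rw [← hw]
          change A.hom.unop.toOrderHom (((Lf 0).map u.right).unop.toOrderHom 0) = _
          rw [hsub (((Lf 0).map u.right).unop.toOrderHom 0)]
        change 𝟙 _ ≫ ((if B.hom.unop.toOrderHom 0 = 0 then a else b) ≫
          K.map (SimplexCategory.const B.right.unop.obj ⦋0⦌ 0).op) =
          ((if A.hom.unop.toOrderHom 0 = 0 then a else b) ≫
          K.map (SimplexCategory.const A.right.unop.obj ⦋0⦌ 0).op) ≫ K.map ((Lf 0).map u.right)
        rw [Category.id_comp, hv, Category.assoc, ← Functor.map_comp]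
        congr 2 }

/-- Existence of a map into `(cosk_0 K)_1` with prescribed vertices. -/
lemma exists_lift0 {T : E} (a b : T ⟶ K.obj (op ⦋0⦌)) :
    ∃ c : T ⟶ ((cosk 0).obj K).obj (op ⦋1⦌),
      c ≫ pr 0 K (vtx 0) = a ∧ c ≫ pr 0 K (vtx 1) = b := by
  refine ⟨(ptwise 0 K (op ⦋1⦌)).lift (cone0 K a b), ?_, ?_⟩
  · have := (ptwise 0 K (op ⦋1⦌)).fac (cone0 K a b) (vtx 0)
    refine this.trans ?_
    have h1 : SimplexCategory.const ⦋0⦌ ⦋0⦌ 0 = 𝟙 _ := by
      apply SimplexCategory.Hom.ext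
      apply OrderHom.ext
      funext k
      exact Subsingleton.elim (α := Fin 1) _ _
    change (if (SimplexCategory.const ⦋0⦌ ⦋1⦌ 0).toOrderHom 0 = 0 then a else b) ≫
      K.map (SimplexCategory.const ⦋0⦌ ⦋0⦌ 0).op = a
    rw [h1, if_pos (show (Hom.toOrderHom (SimplexCategory.const ⦋0⦌ ⦋1⦌ 0)) 0 = 0 from rfl)]
    simp
  · have := (ptwise 0 K (op ⦋1⦌)).fac (cone0 K a b) (vtx 1)
    refine this.trans ?_
    have h1 : SimplexCategory.const ⦋0⦌ ⦋0⦌ 0 = 𝟙 _ := by
      apply SimplexCategory.Hom.ext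
      apply OrderHom.ext
      funext k
      exact Subsingleton.elim (α := Fin 1) _ _
    change (if (SimplexCategory.const ⦋0⦌ ⦋1⦌ 1).toOrderHom 0 = 0 then a else b) ≫
      K.map (SimplexCategory.const ⦋0⦌ ⦋0⦌ 0).op = b
    rw [h1, if_neg (show ¬ (Hom.toOrderHom (SimplexCategory.const ⦋0⦌ ⦋1⦌ 1)) 0 = 0 from
      (by decide : ¬ ((1 : Fin 2) = 0)))]
    simp

lemma unit_vtx (i : Fin 2) :
    ((coskAdj 0).unit.app K).app (op ⦋1⦌) ≫ pr 0 K (vtx i) =
      K.map (SimplexCategory.const ⦋0⦌ ⦋1⦌ i).op :=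
  unit_pr 0 K (vtx i)

/-- The vertex projections with their types normalized. -/
def pr0 (i : Fin 2) : ((cosk 0).obj K).obj (op ⦋1⦌) ⟶ K.obj (op ⦋0⦌) := pr 0 K (vtx i)

lemma exists_lift0' {T : E} (a b : T ⟶ K.obj (op ⦋0⦌)) :
    ∃ c : T ⟶ ((cosk 0).obj K).obj (op ⦋1⦌), c ≫ pr0 K 0 = a ∧ c ≫ pr0 K 1 = b :=
  exists_lift0 K a b

lemma unit_pr0 (i : Fin 2) :
    ((coskAdj 0).unit.app K).app (op ⦋1⦌) ≫ pr0 K i =
      K.map (SimplexCategory.const ⦋0⦌ ⦋1⦌ i).op :=
  unit_pr 0 K (vtx i)

end Zero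

end Groth.Agent.Lib.Helper6.Hyper
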