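import Groth.Prelude.Def_Hyper
import Groth.Agent.Lib.Helper6.Hyper.Cosk0
import Mathlib.Algebra.Homology.ShortComplex.Ab

set_option linter.unusedSectionVars false
set_option linter.unusedVariables false
set_option linter.unusedSimpArgs false
set_option autoImplicit false
set_option linter.style.haveILetI false
set_option maxHeartbeats 400000

noncomputable section

namespace Groth.Agent.Lib.Helper6.Hyper

open CategoryTheory Limits SimplexCategory Simplicial Opposite SimplicialObject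
open Groth.Agent.Lib.Helper6.CoskHtpy

universe u

section Ev

variable {D : Type u} [SmallCategory D] (P : Dᵒᵖ ⥤ Type u) {K0 : FormalCoproduct.{u} D}

/-- Evaluation of a family of sections at a morphism from a representable. -/
def ev (s : ∀ i : K0.I, P.obj (op (K0.obj i))) {Y : D}
    (h : (FormalCoproduct.incl D).obj Y ⟶ K0) : P.obj (op Y) :=
  P.map (h.φ PUnit.unit).op (s (h.f PUnit.unit))

lemma ev_fromIncl (s : ∀ i : K0.I, P.obj (op (K0.obj i))) {Y : D} (i : K0.I)
    (a : Y ⟶ K0.obj i) :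
    ev P s (FormalCoproduct.Hom.fromIncl i a) = P.map a.op (s i) := rfl

lemma ev_map_comp (s : ∀ i : K0.I, P.obj (op (K0.obj i))) {Y Y' : D} (t : Y' ⟶ Y)
    (h : (FormalCoproduct.incl D).obj Y ⟶ K0) :
    ev P s ((FormalCoproduct.incl D).map t ≫ h) = P.map t.op (ev P s h) := by
  unfold ev
  change P.map (t ≫ h.φ PUnit.unit).op _ = _
  rw [op_comp, FunctorToTypes.map_comp_apply]
  rfl

lemma ev_comp (s : ∀ i : K0.I, P.obj (op (K0.obj i))) {K1 : FormalCoproduct.{u} D}
    (g : K1 ⟶ K0) {Y : D} (k : K1.I) (e : Y ⟶ K1.obj k) :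
    ev P s (FormalCoproduct.Hom.fromIncl k e ≫ g) =
      P.map e.op (P.map (g.φ k).op (s (g.f k))) := by
  unfold ev
  change P.map (e ≫ g.φ k).op _ = _
  rw [op_comp, FunctorToTypes.map_comp_apply]
  rfl

end Ev

variable {C : Type u} [SmallCategory C] [HasPullbacks C] (J : GrothendieckTopology C) (X : C)

instance hasFiniteLimitsFC : HasFiniteLimits (FormalCoproduct.{u} (Over X)) :=
  hasFiniteLimits_of_hasTerminal_and_pullbacks

variable (K : SimplicialObject (FormalCoproduct.{u} (Over X)))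
  [∀ (n : ℕ) (F : (SimplexCategory.Truncated n)ᵒᵖ ⥤ FormalCoproduct.{u} (Over X)),
      (SimplexCategory.Truncated.inclusion n).op.HasRightKanExtension F]

lemma ev_indep (hK : Hyper.IsHypercovering J X K) (P : (Over X)ᵒᵖ ⥤ Type u)
    (hP : Presieve.IsSeparated (J.over X) P)
    (s : ∀ i : (K.obj (op ⦋0⦌)).I, P.obj (op ((K.obj (op ⦋0⦌)).obj i)))
    (hs : ∀ k : (K.obj (op ⦋1⦌)).I,
      P.map ((K.map (SimplexCategory.const ⦋0⦌ ⦋1⦌ 0).op).φ k).op
        (s ((K.map (SimplexCategory.const ⦋0⦌ ⦋1⦌ 0).op).f k)) =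
      P.map ((K.map (SimplexCategory.const ⦋0⦌ ⦋1⦌ 1).op).φ k).op
        (s ((K.map (SimplexCategory.const ⦋0⦌ ⦋1⦌ 1).op).f k)))
    {Y : Over X} (h h' : (FormalCoproduct.incl (Over X)).obj Y ⟶ K.obj (op ⦋0⦌)) :
    ev P s h = ev P s h' := by
  obtain ⟨c, hc0, hc1⟩ := exists_lift0' K h h'
  have hcov := hK.2 0 (c.f PUnit.unit)
  have hR : Sieve.pullback (Y := Y) (c.φ PUnit.unit) _ ∈ (J.over X) Y :=
    (J.over X).pullback_stable (c.φ PUnit.unit) hcov
  apply (hP _ hR).ext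
  intro Y' (t : Y' ⟶ Y) ht
  obtain ⟨⟨k, hk⟩, e, he⟩ := (Sieve.mem_ofArrows_iff _ _ _).1 ht
  have key : (FormalCoproduct.incl (Over X)).map t ≫ c =
      FormalCoproduct.Hom.fromIncl k e ≫ ((coskAdj 0).unit.app K).app (op ⦋1⦌) := by
    refine FormalCoproduct.hom_ext ?_ ?_
    · funext x
      exact hk.symm
    · intro x
      change (t ≫ c.φ PUnit.unit) ≫ eqToHom _ =
        e ≫ (((coskAdj 0).unit.app K).app (op ⦋1⦌)).φ k
      rw [he, Category.assoc, Category.assoc, eqToHom_trans, eqToHom_refl, Category.comp_id]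
  rw [← ev_map_comp, ← ev_map_comp]
  have e0 : (FormalCoproduct.incl (Over X)).map t ≫ h =
      FormalCoproduct.Hom.fromIncl k e ≫ K.map (SimplexCategory.const ⦋0⦌ ⦋1⦌ 0).op := by
    rw [← hc0, ← Category.assoc, key, Category.assoc, unit_pr0]
  have e1 : (FormalCoproduct.incl (Over X)).map t ≫ h' =
      FormalCoproduct.Hom.fromIncl k e ≫ K.map (SimplexCategory.const ⦋0⦌ ⦋1⦌ 1).op := by
    rw [← hc1, ← Category.assoc, key, Category.assoc, unit_pr0]
  rw [e0, e1, ev_comp, ev_comp, hs k]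

variable (F : Sheaf J AddCommGrpCat.{u})

/-- The restriction of `F` to `Over X` (as a presheaf). -/
abbrev PF : (Over X)ᵒᵖ ⥤ AddCommGrpCat.{u} := (Over.forget X).op ⋙ F.obj

lemma sheaf_type : Presieve.IsSheaf J (F.obj ⋙ forget AddCommGrpCat.{u}) :=
  (isSheaf_iff_isSheaf_of_type _ _).1
    ((Presheaf.isSheaf_iff_isSheaf_forget J F.obj (forget AddCommGrpCat.{u})).1 F.property)

lemma sep_over : Presieve.IsSeparated (J.over X) (PF J X F ⋙ forget AddCommGrpCat.{u}) :=
  ((isSheaf_iff_isSheaf_of_type _ _).1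
    ((Presheaf.isSheaf_iff_isSheaf_forget (J.over X) _ (forget AddCommGrpCat.{u})).1
      (F.over X).property)).isSeparated

/-- Gluing a cocycle on the degree zero part of a hypercovering. -/
lemma exists_unique_glue (hK : Hyper.IsHypercovering J X K)
    (s : ∀ i : (K.obj (op ⦋0⦌)).I, F.obj.obj (op ((K.obj (op ⦋0⦌)).obj i).left))
    (hs : ∀ k : (K.obj (op ⦋1⦌)).I,
      (PF J X F).map ((K.map (SimplexCategory.const ⦋0⦌ ⦋1⦌ 0).op).φ k).op
        (s ((K.map (SimplexCategory.const ⦋0⦌ ⦋1⦌ 0).op).f k)) =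
      (PF J X F).map ((K.map (SimplexCategory.const ⦋0⦌ ⦋1⦌ 1).op).φ k).op
        (s ((K.map (SimplexCategory.const ⦋0⦌ ⦋1⦌ 1).op).f k))) :
    ∃! t : F.obj.obj (op X), ∀ i, F.obj.map ((K.obj (op ⦋0⦌)).obj i).hom.op t = s i := by
  have hsh := (sheaf_type J F).isSheafFor _ hK.1
  rw [Presieve.isSheafFor_arrows_iff] at hsh
  refine hsh s ?_
  intro i j Z gi gj hij
  have := ev_indep J X K hK (PF J X F ⋙ forget AddCommGrpCat.{u}) (sep_over J X F) s hs
    (Y := Over.mk (gi ≫ ((K.obj (op ⦋0⦌)).obj i).hom))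
    (FormalCoproduct.Hom.fromIncl i (Over.homMk gi rfl))
    (FormalCoproduct.Hom.fromIncl j (Over.homMk gj hij.symm))
  exact this

end Groth.Agent.Lib.Helper6.Hyper
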