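import Groth.Agent.Lib.Helper6.Hyper.YonedaSec
import Groth.Agent.Lib.Helper6.Hyper.H0
import Mathlib.CategoryTheory.Limits.Shapes.FunctorToTypes

set_option linter.unusedSectionVars false
set_option linter.unusedVariables false
set_option linter.unusedSimpArgs false
set_option autoImplicit false
set_option linter.style.haveILetI false
set_option maxHeartbeats 400000

noncomputable section

namespace Groth.Agent.Lib.Helper6.Hyper

open CategoryTheory Limits Opposite SimplexCategory Simplicial SimplicialObject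
open Groth.Agent.Lib.Helper6.CoskHtpy

universe u

section General

variable {D : Type u} [SmallCategory D] (J : GrothendieckTopology D)

lemma secMk_congr {L : FormalCoproduct.{u} D} {Y : D} {m m' : L.I} (h : m = m')
    (b : Y ⟶ L.obj m) (b' : Y ⟶ L.obj m') (hb : b ≫ eqToHom (congrArg L.obj h) = b') :
    secMk m b = secMk m' b' := by
  subst h
  simp only [eqToHom_refl, Category.comp_id] at hb
  rw [hb]

lemma locSurj_of_srCovering {K L : FormalCoproduct.{u} D} (f : K ⟶ L)
    (hf : Hyper.IsSRCovering J f) :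
    Presheaf.IsLocallySurjective J (FormalCoproduct.yoneda.map f) where
  imageSieve_mem {U} s := by
    obtain ⟨m, b, rfl⟩ := sec_surj s
    refine J.superset_covering ?_
      ((isSRCovering_iff J f).1 hf U (FormalCoproduct.Hom.fromIncl m b))
    rintro V t ⟨z, hz⟩
    obtain ⟨k, e, rfl⟩ := exists_fromIncl z
    rw [fromIncl_comp, incl_map_fromIncl, fromIncl_eq_iff] at hz
    obtain ⟨h, hz⟩ := hz
    refine ⟨secMk k e, ?_⟩
    rw [yoneda_map_secMk, map_secMk]
    exact secMk_congr h _ _ hz

lemma terminal_subsingleton (V : D) (x y : (⊤_ (Dᵒᵖ ⥤ Type u)).obj (op V)) : x = y := by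
  have hT : IsTerminal ((⊤_ (Dᵒᵖ ⥤ Type u)).obj (op V)) :=
    terminalIsTerminal.isTerminalObj ((evaluation Dᵒᵖ (Type u)).obj (op V)) _
  have := hT.hom_ext (↾(fun _ : PUnit.{u + 1} => x)) (↾(fun _ : PUnit.{u + 1} => y))
  exact congrArg (fun f => f PUnit.unit) this

end General

variable {C : Type u} [SmallCategory C] [HasPullbacks C] (J : GrothendieckTopology C) (X : C)
variable (K : SimplicialObject (FormalCoproduct.{u} (Over X)))
  [∀ (n : ℕ) (F : (SimplexCategory.Truncated n)ᵒᵖ ⥤ FormalCoproduct.{u} (Over X)),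
      (SimplexCategory.Truncated.inclusion n).op.HasRightKanExtension F]

lemma verdier_one (hK : Hyper.IsHypercovering J X K) :
    Presheaf.IsLocallySurjective (J.over X)
      (terminal.from (FormalCoproduct.yoneda.obj (K.obj (op ⦋0⦌)))) where
  imageSieve_mem {U} s := by
    rw [GrothendieckTopology.mem_over_iff]
    refine J.superset_covering ?_ (J.pullback_stable U.hom hK.1)
    intro V t ht
    rw [Sieve.pullback_apply, Sieve.mem_ofArrows_iff] at ht
    obtain ⟨i, a, ha⟩ := ht
    rw [Sieve.overEquiv_iff]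
    refine ⟨secMk i (Over.homMk a (by simpa using ha.symm)), ?_⟩
    apply terminal_subsingleton

lemma verdier_two (hK : Hyper.IsHypercovering J X K) :
    Presheaf.IsLocallySurjective (J.over X)
      (prod.lift (FormalCoproduct.yoneda.map (K.map (SimplexCategory.const ⦋0⦌ ⦋1⦌ 0).op))
        (FormalCoproduct.yoneda.map (K.map (SimplexCategory.const ⦋0⦌ ⦋1⦌ 1).op))) where
  imageSieve_mem {U} s := by
    obtain ⟨i, a, ha⟩ := sec_surj ((Limits.prod.fst (X := FormalCoproduct.yoneda.obj
      (K.obj (op ⦋0⦌)))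
      (Y := FormalCoproduct.yoneda.obj (K.obj (op ⦋0⦌)))).app (op U) s)
    obtain ⟨j, b, hb⟩ := sec_surj ((Limits.prod.snd (X := FormalCoproduct.yoneda.obj
      (K.obj (op ⦋0⦌)))
      (Y := FormalCoproduct.yoneda.obj (K.obj (op ⦋0⦌)))).app (op U) s)
    obtain ⟨c, hc0, hc1⟩ := exists_lift0' K (FormalCoproduct.Hom.fromIncl i a)
      (FormalCoproduct.Hom.fromIncl j b)
    refine (J.over X).superset_covering ?_
      ((isSRCovering_iff (J.over X) _).1 (hK.2 0) U c)
    rintro V t ⟨z, hz⟩
    obtain ⟨k, e, rfl⟩ := exists_fromIncl z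
    refine ⟨secMk k e, ?_⟩
    have e0 : FormalCoproduct.Hom.fromIncl k e ≫ K.map (SimplexCategory.const ⦋0⦌ ⦋1⦌ 0).op =
        FormalCoproduct.Hom.fromIncl i (t ≫ a) := by
      rw [← unit_pr0, ← Category.assoc]
      erw [hz]
      rw [Category.assoc, hc0]
      rfl
    have e1 : FormalCoproduct.Hom.fromIncl k e ≫ K.map (SimplexCategory.const ⦋0⦌ ⦋1⦌ 1).op =
        FormalCoproduct.Hom.fromIncl j (t ≫ b) := by
      rw [← unit_pr0, ← Category.assoc]
      erw [hz]
      rw [Category.assoc, hc1]
      rfl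
    rw [fromIncl_comp, fromIncl_eq_iff] at e0 e1
    obtain ⟨h0, e0⟩ := e0
    obtain ⟨h1, e1⟩ := e1
    apply FunctorToTypes.prod_ext'
    · have n1 := congrArg (fun α => α.app (op V) (secMk k e))
        (prod.lift_fst (FormalCoproduct.yoneda.map (K.map (SimplexCategory.const ⦋0⦌ ⦋1⦌ 0).op))
        (FormalCoproduct.yoneda.map (K.map (SimplexCategory.const ⦋0⦌ ⦋1⦌ 1).op)))
      have n2 := NatTrans.naturality_apply (Limits.prod.fst (X := FormalCoproduct.yoneda.obj
        (K.obj (op ⦋0⦌))) (Y := FormalCoproduct.yoneda.obj (K.obj (op ⦋0⦌)))) t.op s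
      refine (n1.trans ?_).trans n2.symm
      rw [ha, map_secMk, yoneda_map_secMk]
      exact secMk_congr h0 _ _ e0
    · have n1 := congrArg (fun α => α.app (op V) (secMk k e))
        (prod.lift_snd (FormalCoproduct.yoneda.map (K.map (SimplexCategory.const ⦋0⦌ ⦋1⦌ 0).op))
        (FormalCoproduct.yoneda.map (K.map (SimplexCategory.const ⦋0⦌ ⦋1⦌ 1).op)))
      have n2 := NatTrans.naturality_apply (Limits.prod.snd (X := FormalCoproduct.yoneda.obj
        (K.obj (op ⦋0⦌))) (Y := FormalCoproduct.yoneda.obj (K.obj (op ⦋0⦌)))) t.op s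
      refine (n1.trans ?_).trans n2.symm
      rw [hb, map_secMk, yoneda_map_secMk]
      exact secMk_congr h1 _ _ e1

theorem verdier (hK : Hyper.IsHypercovering J X K) :
    Hyper.IsHypercoveringSite (J.over X) K := by
  refine ⟨verdier_one J X K hK, ?_, ?_⟩
  · have := verdier_two J X K hK
    rw [← SimplexCategory.δ_zero_eq_const, ← SimplexCategory.δ_one_eq_const] at this
    exact this
  · intro n _
    exact locSurj_of_srCovering (J.over X) _ (hK.2 n)

end Groth.Agent.Lib.Helper6.Hyper
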