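import Groth.Agent.Lib.Helper6.Hyper.Refine
import Groth.Agent.Lib.Helper6.Hyper.Verdier

set_option linter.unusedSectionVars false
set_option linter.unusedVariables false
set_option linter.unusedSimpArgs false
set_option autoImplicit false
set_option linter.style.haveILetI false
set_option maxHeartbeats 800000

noncomputable section

namespace Groth.Agent.Lib.Helper6.Hyper

open CategoryTheory Limits SimplexCategory Simplicial Opposite SimplicialObject

universe u

section General

variable {D : Type u} [SmallCategory D]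

/-- `secMk` is injective. -/
lemma secMk_inj {K : FormalCoproduct.{u} D} {Y : D} {k k' : K.I} (e : Y ⟶ K.obj k)
    (e' : Y ⟶ K.obj k') (h : secMk k e = secMk k' e') :
    FormalCoproduct.Hom.fromIncl k e = FormalCoproduct.Hom.fromIncl k' e' := by
  have hc : IsColimit (((evaluation Dᵒᵖ (Type u)).obj (op Y)).mapCocone
      (colimit.cocone (Discrete.functor fun i => yoneda.obj (K.obj i)))) :=
    isColimitOfPreserves _ (colimit.isColimit _)
  let c : Cocone ((Discrete.functor fun i => yoneda.obj (K.obj i)) ⋙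
      (evaluation Dᵒᵖ (Type u)).obj (op Y)) :=
    { pt := Σ k : K.I, (Y ⟶ K.obj k)
      ι := Discrete.natTrans (fun ⟨k⟩ => ↾(fun e : (Y ⟶ K.obj k) => (⟨k, e⟩ : Σ k : K.I, (Y ⟶ K.obj k)))) }
  have h1 : ∀ (k : K.I) (e : Y ⟶ K.obj k), hc.desc c (secMk k e) = ⟨k, e⟩ := by
    intro k e
    have := hc.fac c ⟨k⟩
    exact congrArg (fun f => f e) this
  have h2 := congrArg (hc.desc c) h
  rw [h1, h1] at h2
  obtain ⟨rfl, h3⟩ := Sigma.mk.inj_iff.1 h2
  rw [eq_of_heq h3]

/-- The formal coproduct of all sections of a presheaf. -/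
def secFC (P : Dᵒᵖ ⥤ Type u) : FormalCoproduct.{u} D where
  I := Σ Y : D, P.obj (op Y)
  obj i := i.1

/-- The canonical map from the coproduct of sections to the presheaf. -/
def secDesc (P : Dᵒᵖ ⥤ Type u) : FormalCoproduct.yoneda.obj (secFC P) ⟶ P :=
  Sigma.desc (fun i : (secFC P).I => yonedaEquiv.symm i.2)

end General

variable {C : Type u} [SmallCategory C] [HasPullbacks C] (J : GrothendieckTopology C) (X : C)
    [∀ (n : ℕ) (F : (SimplexCategory.Truncated n)ᵒᵖ ⥤ Limits.FormalCoproduct.{u} (Over X)),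
      (SimplexCategory.Truncated.inclusion n).op.HasRightKanExtension F]

theorem refine_psh (K : SimplicialObject (FormalCoproduct.{u} (Over X)))
    (hK : Hyper.IsHypercovering J X K) (n : ℕ)
    (P : (Over X)ᵒᵖ ⥤ Type u)
    (u : P ⟶ FormalCoproduct.yoneda.obj (K.obj (op (SimplexCategory.mk n))))
    (hu : Presheaf.IsLocallySurjective (J.over X) u) :
    ∃ (L : SimplicialObject (FormalCoproduct.{u} (Over X))) (f : L ⟶ K)
      (g : FormalCoproduct.yoneda.obj (L.obj (op (SimplexCategory.mk n))) ⟶ P),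
      Hyper.IsHypercovering J X L ∧
        g ≫ u = FormalCoproduct.yoneda.map (f.app (op (SimplexCategory.mk n))) := by
  have hch : ∀ i : (secFC P).I, ∃ (k : (K.obj (op (SimplexCategory.mk n))).I)
      (e : i.1 ⟶ (K.obj (op (SimplexCategory.mk n))).obj k), u.app (op i.1) i.2 = secMk k e :=
    fun i => sec_surj _
  choose kk ee hke using hch
  let uZ : secFC P ⟶ K.obj (op (SimplexCategory.mk n)) := ⟨kk, ee⟩
  have huZ : Hyper.IsSRCovering (J.over X) uZ := by
    rw [isSRCovering_iff]
    intro Y y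
    obtain ⟨k, b, rfl⟩ := exists_fromIncl y
    refine (J.over X).superset_covering ?_ (hu.imageSieve_mem (secMk k b))
    rintro Y' t ⟨p, hp⟩
    refine ⟨FormalCoproduct.Hom.fromIncl (⟨Y', p⟩ : (secFC P).I) (𝟙 Y'), ?_⟩
    have e1 : FormalCoproduct.Hom.fromIncl (⟨Y', p⟩ : (secFC P).I) (𝟙 Y') ≫ uZ =
        FormalCoproduct.Hom.fromIncl (kk ⟨Y', p⟩) (ee ⟨Y', p⟩) := by
      rw [fromIncl_comp]
      congr 1
      exact Category.id_comp _
    rw [e1, incl_map_fromIncl]
    apply secMk_inj
    rw [← hke ⟨Y', p⟩, ← map_secMk]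
    exact hp
  obtain ⟨L, f, gZ, hL, hg⟩ := refine_exists J X K hK n (secFC P) uZ huZ
  refine ⟨L, f, FormalCoproduct.yoneda.map gZ ≫ secDesc P, hL, ?_⟩
  have hv : secDesc P ≫ u = FormalCoproduct.yoneda.map uZ := by
    apply Sigma.hom_ext
    intro i
    have h1 : Sigma.ι (fun i : (secFC P).I => yoneda.obj ((secFC P).obj i)) i ≫
        FormalCoproduct.yoneda.map uZ =
        yoneda.map (uZ.φ i) ≫ Sigma.ι (fun k => yoneda.obj
          ((K.obj (op (SimplexCategory.mk n))).obj k)) (uZ.f i) := by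
      apply Sigma.ι_desc
    have h2 : Sigma.ι (fun i : (secFC P).I => yoneda.obj ((secFC P).obj i)) i ≫ secDesc P =
        yonedaEquiv.symm i.2 := by
      apply Sigma.ι_desc
    have h3 : Sigma.ι (fun i : (secFC P).I => yoneda.obj ((secFC P).obj i)) i ≫
        (secDesc P ≫ u) = yonedaEquiv.symm i.2 ≫ u :=
      (Category.assoc _ _ _).symm.trans (congrArg (· ≫ u) h2)
    refine h3.trans (Eq.trans ?_ h1.symm)
    apply yonedaEquiv.injective
    rw [yonedaEquiv_comp, Equiv.apply_symm_apply]
    refine (hke i).trans ?_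
    unfold secMk
    rw [yonedaEquiv_apply]
    change _ = (Sigma.ι (fun k => yoneda.obj ((K.obj (op (SimplexCategory.mk n))).obj k))
      (kk i)).app (op i.1) ((𝟙 i.1 : i.1 ⟶ i.1) ≫ ee i)
    rw [Category.id_comp]
  rw [Category.assoc, hv, ← Functor.map_comp, hg]

end Groth.Agent.Lib.Helper6.Hyper
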