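import Groth.Agent.Lib.Helper6.Hyper.SRCov
import Mathlib.CategoryTheory.Limits.FunctorCategory.Basic
import Mathlib.CategoryTheory.Limits.Types.Colimits

set_option linter.unusedSectionVars false
set_option linter.unusedVariables false
set_option linter.unusedSimpArgs false
set_option autoImplicit false
set_option linter.style.haveILetI false
set_option maxHeartbeats 400000

noncomputable section

namespace Groth.Agent.Lib.Helper6.Hyper

open CategoryTheory Limits Opposite

universe u

variable {D : Type u} [SmallCategory D]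

/-- The section of the coproduct of representables attached to a component and a morphism. -/
def secMk {K : FormalCoproduct.{u} D} {Y : D} (k : K.I) (e : Y ⟶ K.obj k) :
    (FormalCoproduct.yoneda.obj K).obj (op Y) :=
  (Sigma.ι (fun i => yoneda.obj (K.obj i)) k).app (op Y) e

lemma sec_surj {K : FormalCoproduct.{u} D} {Y : D}
    (s : (FormalCoproduct.yoneda.obj K).obj (op Y)) :
    ∃ (k : K.I) (e : Y ⟶ K.obj k), s = secMk k e := by
  have hc : IsColimit (((evaluation Dᵒᵖ (Type u)).obj (op Y)).mapCocone
      (colimit.cocone (Discrete.functor fun i => yoneda.obj (K.obj i)))) :=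
    isColimitOfPreserves _ (colimit.isColimit _)
  obtain ⟨⟨k⟩, e, he⟩ := Types.jointly_surjective_of_isColimit hc s
  exact ⟨k, e, he.symm⟩

lemma yoneda_map_secMk {K L : FormalCoproduct.{u} D} (f : K ⟶ L) {Y : D} (k : K.I)
    (e : Y ⟶ K.obj k) :
    (FormalCoproduct.yoneda.map f).app (op Y) (secMk k e) = secMk (f.f k) (e ≫ f.φ k) := by
  have h : Sigma.ι (fun i => yoneda.obj (K.obj i)) k ≫ FormalCoproduct.yoneda.map f =
      yoneda.map (f.φ k) ≫ Sigma.ι (fun i => yoneda.obj (L.obj i)) (f.f k) := by
    apply Sigma.ι_desc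
  have h2 := congrArg (fun α => α.app (op Y) e) h
  exact h2

lemma map_secMk {K : FormalCoproduct.{u} D} {Y Y' : D} (t : Y' ⟶ Y) (k : K.I)
    (e : Y ⟶ K.obj k) :
    (FormalCoproduct.yoneda.obj K).map t.op (secMk k e) = secMk k (t ≫ e) := by
  have := (Sigma.ι (fun i => yoneda.obj (K.obj i)) k).naturality t.op
  have h2 := congrArg (fun α => α e) this
  exact h2.symm

end Groth.Agent.Lib.Helper6.Hyper
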