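import Groth.Agent.Lib.Helper6.Hyper.H0
import Mathlib.CategoryTheory.Limits.Shapes.ConcreteCategory
import Mathlib.Algebra.Category.Grp.Preadditive
import Mathlib.Algebra.Category.Grp.Limits

set_option linter.unusedSectionVars false
set_option linter.unusedVariables false
set_option linter.unusedSimpArgs false
set_option autoImplicit false
set_option linter.style.haveILetI false
set_option maxHeartbeats 400000

noncomputable section

namespace Groth.Agent.Lib.Helper6.Hyper

open CategoryTheory Limits SimplexCategory Simplicial Opposite SimplicialObject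
open Groth.Agent.Lib.Helper6.CoskHtpy

universe u

section Pi

variable {ι : Type u} (f : ι → AddCommGrpCat.{u})

lemma pi_ext (x y : ↑(∏ᶜ f)) (h : ∀ i, (Pi.π f i) x = (Pi.π f i) y) : x = y := by
  apply (Concrete.productEquiv f).injective
  funext i
  rw [Concrete.productEquiv_apply_apply, Concrete.productEquiv_apply_apply]
  exact h i

lemma pi_exists (s : ∀ i, f i) : ∃ x : ↑(∏ᶜ f), ∀ i, (Pi.π f i) x = s i :=
  ⟨(Concrete.productEquiv f).symm s, fun i => Concrete.productEquiv_symm_apply_π f s i⟩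

end Pi

variable {C : Type u} [SmallCategory C] [HasPullbacks C] (J : GrothendieckTopology C) (X : C)
variable (K : SimplicialObject (FormalCoproduct.{u} (Over X)))
  [∀ (n : ℕ) (F : (SimplexCategory.Truncated n)ᵒᵖ ⥤ FormalCoproduct.{u} (Over X)),
      (SimplexCategory.Truncated.inclusion n).op.HasRightKanExtension F]
variable (F : Sheaf J AddCommGrpCat.{u})

/-- The family of groups in degree `n`. -/
abbrev fam (n : ℕ) (i : (K.obj (op ⦋n⦌)).I) : AddCommGrpCat.{u} :=
  (PF J X F).obj (op ((K.obj (op ⦋n⦌)).obj i))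

/-- The degree `n` term of the Čech complex. -/
abbrev XX (n : ℕ) : AddCommGrpCat.{u} := ∏ᶜ (fam J X K F n)

/-- The projections. -/
abbrev pp (n : ℕ) (i : (K.obj (op ⦋n⦌)).I) : XX J X K F n ⟶ fam J X K F n i :=
  Pi.π (fam J X K F n) i

/-- The map induced by a morphism `K_1 → K_0`. -/
abbrev dd (g : K.obj (op ⦋1⦌) ⟶ K.obj (op ⦋0⦌)) : XX J X K F 0 ⟶ XX J X K F 1 :=
  ((FormalCoproduct.evalOp _ _).obj (PF J X F)).map g.op

lemma dd_π (g : K.obj (op ⦋1⦌) ⟶ K.obj (op ⦋0⦌)) (k : (K.obj (op ⦋1⦌)).I)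
    (x : XX J X K F 0) :
    (pp J X K F 1 k) (dd J X K F g x) =
      (PF J X F).map (g.φ k).op ((pp J X K F 0 (g.f k)) x) := by
  have : dd J X K F g ≫ pp J X K F 1 k =
      pp J X K F 0 (g.f k) ≫ (PF J X F).map (g.φ k).op := by
    apply Pi.lift_π
  have h2 := ConcreteCategory.congr_hom this x
  rw [ConcreteCategory.comp_apply, ConcreteCategory.comp_apply] at h2
  exact h2

/-- The first differential with normalized types. -/
abbrev d01 : XX J X K F 0 ⟶ XX J X K F 1 := (Hyper.cechCx X K F.obj).d 0 1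

lemma d_eq : d01 J X K F =
    dd J X K F (K.map (SimplexCategory.const ⦋0⦌ ⦋1⦌ 1).op) -
      dd J X K F (K.map (SimplexCategory.const ⦋0⦌ ⦋1⦌ 0).op) := by
  have h1 : d01 J X K F =
      AlgebraicTopology.AlternatingCofaceMapComplex.objD
        ((FormalCoproduct.cosimplicialObjectFunctor K).obj (PF J X F)) 0 :=
    CochainComplex.of_d
      (fun n => ((FormalCoproduct.cosimplicialObjectFunctor K).obj (PF J X F)).obj ⦋n⦌)
      (AlgebraicTopology.AlternatingCofaceMapComplex.objD
        ((FormalCoproduct.cosimplicialObjectFunctor K).obj (PF J X F))) 0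
  rw [h1, AlgebraicTopology.AlternatingCofaceMapComplex.objD, Fin.sum_univ_two]
  simp only [Fin.val_zero, pow_zero, one_smul, Fin.val_one, pow_one, neg_smul]
  rw [← sub_eq_add_neg]
  have e0 : ((FormalCoproduct.cosimplicialObjectFunctor K).obj (PF J X F)).δ 0 =
      dd J X K F (K.map (SimplexCategory.const ⦋0⦌ ⦋1⦌ 1).op) := by
    rw [← SimplexCategory.δ_zero_eq_const]; rfl
  have e1 : ((FormalCoproduct.cosimplicialObjectFunctor K).obj (PF J X F)).δ 1 =
      dd J X K F (K.map (SimplexCategory.const ⦋0⦌ ⦋1⦌ 0).op) := by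
    rw [← SimplexCategory.δ_one_eq_const]; rfl
  rw [e0, e1]
  rfl

/-- The restriction map from `F(X)` to the degree zero term. -/
def rho : F.obj.obj (op X) ⟶ XX J X K F 0 :=
  Pi.lift (fun i => F.obj.map ((K.obj (op ⦋0⦌)).obj i).hom.op)

lemma rho_π (i : (K.obj (op ⦋0⦌)).I) (t : F.obj.obj (op X)) :
    (pp J X K F 0 i) (rho J X K F t) = F.obj.map ((K.obj (op ⦋0⦌)).obj i).hom.op t := by
  have : rho J X K F ≫ pp J X K F 0 i = F.obj.map ((K.obj (op ⦋0⦌)).obj i).hom.op := by
    apply Pi.lift_π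
  have h2 := ConcreteCategory.congr_hom this t
  rw [ConcreteCategory.comp_apply] at h2
  exact h2

lemma cocycle_iff (x : XX J X K F 0) :
    (d01 J X K F) x = 0 ↔
      ∀ k : (K.obj (op ⦋1⦌)).I,
        (PF J X F).map ((K.map (SimplexCategory.const ⦋0⦌ ⦋1⦌ 0).op).φ k).op
          ((pp J X K F 0 ((K.map (SimplexCategory.const ⦋0⦌ ⦋1⦌ 0).op).f k)) x) =
        (PF J X F).map ((K.map (SimplexCategory.const ⦋0⦌ ⦋1⦌ 1).op).φ k).op
          ((pp J X K F 0 ((K.map (SimplexCategory.const ⦋0⦌ ⦋1⦌ 1).op).f k)) x) := by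
  rw [d_eq]
  have : (dd J X K F (K.map (SimplexCategory.const ⦋0⦌ ⦋1⦌ 1).op) -
      dd J X K F (K.map (SimplexCategory.const ⦋0⦌ ⦋1⦌ 0).op)) x =
      dd J X K F (K.map (SimplexCategory.const ⦋0⦌ ⦋1⦌ 1).op) x -
      dd J X K F (K.map (SimplexCategory.const ⦋0⦌ ⦋1⦌ 0).op) x := rfl
  rw [this, sub_eq_zero]
  constructor
  · intro h k
    rw [← dd_π, ← dd_π, h]
  · intro h
    apply pi_ext
    intro k
    have := h k
    rw [← dd_π, ← dd_π] at this
    exact this.symm

lemma over_aux {A B : Over X} (φ : A ⟶ B) :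
    (B.hom.op ≫ (Over.forget X).op.map φ.op : op X ⟶ op A.left) = A.hom.op := by
  rw [← Over.w φ]; rfl

theorem h0_iso (hK : Hyper.IsHypercovering J X K) :
    Nonempty (Hyper.cechH X K F.obj 0 ≅ F.obj.obj (op X)) := by
  have hz : rho J X K F ≫ d01 J X K F = 0 := by
    apply ConcreteCategory.hom_ext
    intro t
    rw [ConcreteCategory.comp_apply]
    change (d01 J X K F) (rho J X K F t) = 0
    rw [cocycle_iff]
    intro k
    rw [rho_π, rho_π]
    change (F.obj.map _ ≫ F.obj.map _) t = (F.obj.map _ ≫ F.obj.map _) t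
    rw [← Functor.map_comp, ← Functor.map_comp]
    erw [over_aux X ((K.map (SimplexCategory.const ⦋0⦌ ⦋1⦌ 0).op).φ k),
      over_aux X ((K.map (SimplexCategory.const ⦋0⦌ ⦋1⦌ 1).op).φ k)]
  have hmono : Mono (rho J X K F) := by
    rw [AddCommGrpCat.mono_iff_injective, injective_iff_map_eq_zero]
    intro t ht
    have hsh := (sheaf_type J F).isSheafFor _ hK.1
    apply hsh.isSeparatedFor.ext
    rintro Y f ⟨i⟩
    have h1 := rho_π J X K F i t
    rw [ht] at h1
    change F.obj.map _ t = F.obj.map _ 0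
    rw [← h1, map_zero, map_zero]
    rfl
  have hex : (ShortComplex.mk _ _ hz).Exact := by
    rw [ShortComplex.ab_exact_iff]
    intro x hx
    change (d01 J X K F) x = 0 at hx
    rw [cocycle_iff] at hx
    obtain ⟨t, ht, -⟩ := exists_unique_glue J X K F hK (fun i => (pp J X K F 0 i) x) hx
    refine ⟨t, ?_⟩
    apply pi_ext
    intro i
    change (pp J X K F 0 i) (rho J X K F t) = _
    rw [rho_π, ht]
  exact ⟨((Hyper.cechCx X K F.obj).isoHomologyπ₀).symm ≪≫
    (IsLimit.conePointUniqueUpToIso ((Hyper.cechCx X K F.obj).cyclesIsKernel 0 1 (by simp))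
      hex.fIsKernel)⟩

end Groth.Agent.Lib.Helper6.Hyper
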