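import Mathlib.AlgebraicTopology.SimplexCategory.Basic
import Mathlib.CategoryTheory.Limits.Shapes.Images

set_option linter.unusedSectionVars false
set_option linter.unusedVariables false
set_option linter.unusedSimpArgs false
set_option autoImplicit false
set_option linter.style.haveILetI false
set_option maxHeartbeats 400000

noncomputable section

namespace Groth.Agent.Lib.Helper6.Hyper

open CategoryTheory Limits SimplexCategory Simplicial

variable {Δ₀ : SimplexCategory} {m : ℕ}

/-- The image of a non-surjective map to `[m+1]` has length at most `m`. -/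
lemma len_image_le (ρ : Δ₀ ⟶ ⦋m + 1⦌) (hρ : ¬ Function.Surjective ρ.toOrderHom) :
    (image ρ).len ≤ m := by
  by_contra hlt
  have h1 : (image ρ).len ≤ m + 1 := by
    have := len_le_of_mono (image.ι ρ)
    simpa using this
  have h2 : (image ρ).len = m + 1 := by omega
  have hinj : Function.Injective (image.ι ρ).toOrderHom :=
    SimplexCategory.mono_iff_injective.1 inferInstance
  have hcard : Fintype.card (Fin ((image ρ).len + 1)) = Fintype.card (Fin (⦋m + 1⦌.len + 1)) := by
    simp [h2]
  have hsurj : Function.Surjective (image.ι ρ).toOrderHom :=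
    ((Fintype.bijective_iff_injective_and_card _).2 ⟨hinj, hcard⟩).2
  have hsurj2 : Function.Surjective (factorThruImage ρ).toOrderHom :=
    SimplexCategory.epi_iff_surjective.1 inferInstance
  apply hρ
  rw [← image.fac ρ]
  intro x
  obtain ⟨y, rfl⟩ := hsurj x
  obtain ⟨z, rfl⟩ := hsurj2 y
  exact ⟨z, rfl⟩

/-- A map factoring through a simplex of length `≤ m` is not surjective onto `[m+1]`. -/
lemma not_surj_of_factor {Δ' : SimplexCategory} (h : Δ'.len ≤ m) (γ' : Δ₀ ⟶ Δ')
    (θ : Δ' ⟶ ⦋m + 1⦌) : ¬ Function.Surjective (γ' ≫ θ).toOrderHom := by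
  intro hs
  have hθ : Function.Surjective θ.toOrderHom := by
    intro x
    obtain ⟨y, hy⟩ := hs x
    exact ⟨γ'.toOrderHom y, hy⟩
  haveI : Epi θ := SimplexCategory.epi_iff_surjective.2 hθ
  have := len_le_of_epi θ
  simp at this
  omega

/-- The zigzag relating an arbitrary factorization with the image factorization. -/
lemma zigzag {Δ' : SimplexCategory} (h : Δ'.len ≤ m) (γ' : Δ₀ ⟶ Δ')
    (θ : Δ' ⟶ ⦋m + 1⦌) :
    ∃ (I' : SimplexCategory) (_ : I'.len ≤ m) (e' : Δ₀ ⟶ I') (i' : I' ⟶ Δ')
      (ψ₂ : I' ⟶ image (γ' ≫ θ)), e' ≫ i' = γ' ∧ e' ≫ ψ₂ = factorThruImage (γ' ≫ θ) ∧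
        ψ₂ ≫ image.ι (γ' ≫ θ) = i' ≫ θ := by
  have hlen : (image γ').len ≤ m := (len_le_of_mono (image.ι γ')).trans h
  haveI : StrongEpi (factorThruImage γ') := strongEpi_of_epi _
  have sq : CommSq (factorThruImage (γ' ≫ θ)) (factorThruImage γ') (image.ι (γ' ≫ θ))
      (image.ι γ' ≫ θ) := ⟨by rw [image.fac, ← Category.assoc, image.fac]⟩
  refine ⟨image γ', hlen, factorThruImage γ', image.ι γ', sq.lift, image.fac γ',
    sq.fac_left, sq.fac_right⟩

end Groth.Agent.Lib.Helper6.Hyper
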