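import Groth.Agent.Lib.Helper6.Hyper.SRCov
import Mathlib.AlgebraicTopology.SimplicialObject.Coskeletal
import Mathlib.CategoryTheory.Limits.FunctorCategory.Basic
import Mathlib.CategoryTheory.Limits.Preserves.FunctorCategory
import Mathlib.CategoryTheory.Adjunction.Limits
import Mathlib.CategoryTheory.Limits.Shapes.Pullback.CommSq

set_option linter.unusedSectionVars false
set_option linter.unusedVariables false
set_option linter.unusedSimpArgs false
set_option autoImplicit false
set_option linter.style.haveILetI false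
set_option maxHeartbeats 400000

noncomputable section

namespace Groth.Agent.Lib.Helper6.Hyper

open CategoryTheory Limits Opposite SimplicialObject

universe u

variable {C : Type u} [SmallCategory C] [HasPullbacks C] (J : GrothendieckTopology C) (X : C)
    [∀ (n : ℕ) (F : (SimplexCategory.Truncated n)ᵒᵖ ⥤ Limits.FormalCoproduct.{u} (Over X)),
      (SimplexCategory.Truncated.inclusion n).op.HasRightKanExtension F]

instance presTrunc (n : ℕ) : PreservesLimitsOfShape WalkingCospan
    (SimplicialObject.truncation (C := FormalCoproduct.{u} (Over X)) n) :=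
  inferInstanceAs (PreservesLimitsOfShape WalkingCospan
    ((Functor.whiskeringLeft _ _ _).obj (SimplexCategory.Truncated.inclusion n).op))

instance presCosk (n : ℕ) : PreservesLimitsOfShape WalkingCospan
    (SimplicialObject.Truncated.cosk (C := FormalCoproduct.{u} (Over X)) n) := by
  have := (SimplicialObject.coskAdj (C := FormalCoproduct.{u} (Over X)) n).rightAdjoint_preservesLimits
  infer_instance

/-- Evaluation at `[m]`. -/
abbrev evm (m : ℕ) : SimplicialObject (FormalCoproduct.{u} (Over X)) ⥤ FormalCoproduct.{u} (Over X) :=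
  (evaluation SimplexCategoryᵒᵖ (FormalCoproduct.{u} (Over X))).obj (op (SimplexCategory.mk m))

/-- The functor `cosk_n sk_n`. -/
abbrev TT (n : ℕ) : SimplicialObject (FormalCoproduct.{u} (Over X)) ⥤
    SimplicialObject (FormalCoproduct.{u} (Over X)) :=
  SimplicialObject.truncation n ⋙ SimplicialObject.Truncated.cosk n

variable {K L M P : SimplicialObject (FormalCoproduct.{u} (Over X))} (a : K ⟶ L) (b : M ⟶ L)
    (p1 : P ⟶ K) (p2 : P ⟶ M) (hP : IsPullback p1 p2 a b)

include hP in
lemma covers_zero
    (hK0 : Sieve.ofArrows (fun i => ((K.obj (op (SimplexCategory.mk 0))).obj i).left)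
      (fun i => ((K.obj (op (SimplexCategory.mk 0))).obj i).hom) ∈ J X)
    (h0 : Hyper.IsSRCovering (J.over X) (b.app (op (SimplexCategory.mk 0)))) :
    Sieve.ofArrows (fun i => ((P.obj (op (SimplexCategory.mk 0))).obj i).left)
      (fun i => ((P.obj (op (SimplexCategory.mk 0))).obj i).hom) ∈ J X := by
  have hP0 : IsPullback (p1.app (op (SimplexCategory.mk 0))) (p2.app (op (SimplexCategory.mk 0)))
      (a.app (op (SimplexCategory.mk 0))) (b.app (op (SimplexCategory.mk 0))) :=
    hP.map (evm X 0)
  refine J.transitive hK0 _ ?_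
  intro Y g hg
  rw [Sieve.mem_ofArrows_iff] at hg
  obtain ⟨i, e, rfl⟩ := hg
  rw [Sieve.pullback_comp]
  apply J.pullback_stable
  have hl := (isSRCovering_iff (J.over X) _).1 h0 ((K.obj (op (SimplexCategory.mk 0))).obj i)
    (FormalCoproduct.Hom.fromIncl i (𝟙 _) ≫ a.app (op (SimplexCategory.mk 0)))
  rw [GrothendieckTopology.mem_over_iff] at hl
  refine J.superset_covering ?_ hl
  intro V t ht
  rw [Sieve.overEquiv_iff] at ht
  obtain ⟨z, hz⟩ := ht
  rw [Sieve.pullback_apply, Sieve.mem_ofArrows_iff]
  let w := hP0.lift ((FormalCoproduct.incl (Over X)).map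
    (Over.homMk t rfl : Over.mk (t ≫ ((K.obj (op (SimplexCategory.mk 0))).obj i).hom) ⟶ _) ≫
    FormalCoproduct.Hom.fromIncl i (𝟙 _)) z (by rw [hz, Category.assoc])
  obtain ⟨p, w', hw⟩ := exists_fromIncl w
  refine ⟨p, w'.left, ?_⟩
  exact (Over.w w').symm

/-- The unit of the coskeleton adjunction at level `n + 1`. -/
abbrev eta (n : ℕ) (K : SimplicialObject (FormalCoproduct.{u} (Over X))) :
    K.obj (op (SimplexCategory.mk (n + 1))) ⟶
      ((TT X n).obj K).obj (op (SimplexCategory.mk (n + 1))) :=
  ((SimplicialObject.coskAdj n).unit.app K).app (op (SimplexCategory.mk (n + 1)))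

lemma eta_nat (n : ℕ) {K L : SimplicialObject (FormalCoproduct.{u} (Over X))} (a : K ⟶ L) :
    a.app (op (SimplexCategory.mk (n + 1))) ≫ eta X n L =
      eta X n K ≫ ((TT X n).map a).app (op (SimplexCategory.mk (n + 1))) := by
  have := (SimplicialObject.coskAdj n).unit.naturality a
  exact congr_app this (op (SimplexCategory.mk (n + 1)))

include hP in
lemma eta_cov (n : ℕ)
    (hKn : Hyper.IsSRCovering (J.over X) (eta X n K))
    (hγ : ∀ (Q : FormalCoproduct.{u} (Over X))
      (q1 : Q ⟶ L.obj (op (SimplexCategory.mk (n + 1))))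
      (q2 : Q ⟶ ((TT X n).obj M).obj (op (SimplexCategory.mk (n + 1))))
      (γ : M.obj (op (SimplexCategory.mk (n + 1))) ⟶ Q),
      IsPullback q1 q2 (eta X n L) (((TT X n).map b).app (op (SimplexCategory.mk (n + 1)))) →
      γ ≫ q1 = b.app (op (SimplexCategory.mk (n + 1))) →
      γ ≫ q2 = eta X n M →
      Hyper.IsSRCovering (J.over X) γ) :
    Hyper.IsSRCovering (J.over X) (eta X n P) := by
  have hP' : IsPullback (p1.app (op (SimplexCategory.mk (n + 1))))
      (p2.app (op (SimplexCategory.mk (n + 1))))
      (a.app (op (SimplexCategory.mk (n + 1)))) (b.app (op (SimplexCategory.mk (n + 1)))) :=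
    hP.map (evm X (n + 1))
  have hcP : IsPullback (((TT X n).map p1).app (op (SimplexCategory.mk (n + 1))))
      (((TT X n).map p2).app (op (SimplexCategory.mk (n + 1))))
      (((TT X n).map a).app (op (SimplexCategory.mk (n + 1))))
      (((TT X n).map b).app (op (SimplexCategory.mk (n + 1)))) :=
    (hP.map (TT X n)).map (evm X (n + 1))
  -- the auxiliary pullback `Q`
  have hQ := IsPullback.of_hasPullback (eta X n L)
    (((TT X n).map b).app (op (SimplexCategory.mk (n + 1))))
  let γ : M.obj (op (SimplexCategory.mk (n + 1))) ⟶ pullback (eta X n L)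
      (((TT X n).map b).app (op (SimplexCategory.mk (n + 1)))) :=
    pullback.lift (b.app (op (SimplexCategory.mk (n + 1)))) (eta X n M) (eta_nat X n b)
  have hγ' : Hyper.IsSRCovering (J.over X) γ :=
    hγ _ _ _ γ hQ (pullback.lift_fst _ _ _) (pullback.lift_snd _ _ _)
  rw [isSRCovering_iff]
  intro Y y
  have h1 := (isSRCovering_iff (J.over X) _).1 hKn Y
    (y ≫ ((TT X n).map p1).app (op (SimplexCategory.mk (n + 1))))
  refine (J.over X).transitive h1 _ ?_
  rintro Y1 t1 ⟨zK, hzK⟩
  have hw : (zK ≫ a.app (op (SimplexCategory.mk (n + 1)))) ≫ eta X n L =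
      ((FormalCoproduct.incl (Over X)).map t1 ≫ y ≫
        ((TT X n).map p2).app (op (SimplexCategory.mk (n + 1)))) ≫
        ((TT X n).map b).app (op (SimplexCategory.mk (n + 1))) := by
    rw [Category.assoc, eta_nat, ← Category.assoc, hzK]
    simp only [Category.assoc]
    rw [hcP.w]
  let w := pullback.lift _ _ hw
  have h2 := (isSRCovering_iff (J.over X) _).1 hγ' Y1 w
  refine (J.over X).superset_covering ?_ h2
  rintro Y2 t2 ⟨zM, hzM⟩
  have hzM1 : zM ≫ b.app (op (SimplexCategory.mk (n + 1))) =
      (FormalCoproduct.incl (Over X)).map t2 ≫ zK ≫ a.app (op (SimplexCategory.mk (n + 1))) := by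
    have := congrArg (fun f => f ≫ pullback.fst _ _) hzM
    simp only [Category.assoc] at this
    rw [pullback.lift_fst] at this
    rw [this]
    congr 1
    exact pullback.lift_fst _ _ _
  have hzM2 : zM ≫ eta X n M =
      (FormalCoproduct.incl (Over X)).map t2 ≫ (FormalCoproduct.incl (Over X)).map t1 ≫ y ≫
        ((TT X n).map p2).app (op (SimplexCategory.mk (n + 1))) := by
    have := congrArg (fun f => f ≫ pullback.snd _ _) hzM
    simp only [Category.assoc] at this
    rw [pullback.lift_snd] at this
    rw [this]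
    congr 1
    exact pullback.lift_snd _ _ _
  rw [Sieve.pullback_apply, mem_liftSieve]
  refine ⟨hP'.lift ((FormalCoproduct.incl (Over X)).map t2 ≫ zK) zM
    (by rw [Category.assoc, hzM1]), ?_⟩
  apply hcP.hom_ext
  · rw [Category.assoc, ← eta_nat, ← Category.assoc, hP'.lift_fst, Category.assoc, hzK,
      Functor.map_comp]
    simp only [Category.assoc]
  · rw [Category.assoc, ← eta_nat, ← Category.assoc, hP'.lift_snd, hzM2, Functor.map_comp]
    simp only [Category.assoc]

include hP in
theorem pullback_hypercovering (hK : Hyper.IsHypercovering J X K)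
    (h0 : Hyper.IsSRCovering (J.over X) (b.app (op (SimplexCategory.mk 0))))
    (hγ : ∀ (n : ℕ) (Q : FormalCoproduct.{u} (Over X))
      (q1 : Q ⟶ L.obj (op (SimplexCategory.mk (n + 1))))
      (q2 : Q ⟶ ((SimplicialObject.truncation n ⋙ SimplicialObject.Truncated.cosk n).obj M).obj
        (op (SimplexCategory.mk (n + 1))))
      (γ : M.obj (op (SimplexCategory.mk (n + 1))) ⟶ Q),
      IsPullback q1 q2 (((SimplicialObject.coskAdj n).unit.app L).app (op (SimplexCategory.mk (n + 1))))
        (((SimplicialObject.truncation n ⋙ SimplicialObject.Truncated.cosk n).map b).app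
          (op (SimplexCategory.mk (n + 1)))) →
      γ ≫ q1 = b.app (op (SimplexCategory.mk (n + 1))) →
      γ ≫ q2 = ((SimplicialObject.coskAdj n).unit.app M).app (op (SimplexCategory.mk (n + 1))) →
      Hyper.IsSRCovering (J.over X) γ) :
    Hyper.IsHypercovering J X P :=
  ⟨covers_zero J X a b p1 p2 hP hK.1 h0,
    fun n => eta_cov J X a b p1 p2 hP n (hK.2 n) (hγ n)⟩

end Groth.Agent.Lib.Helper6.Hyper
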