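import Groth.Agent.Lib.Helper6.Hyper.RAdj3
import Groth.Agent.Lib.Helper6.Hyper.PullbackHyp
import Groth.Agent.Lib.Helper6.Hyper.H0

set_option linter.unusedSectionVars false
set_option linter.unusedVariables false
set_option linter.unusedSimpArgs false
set_option autoImplicit false
set_option linter.style.haveILetI false
set_option maxHeartbeats 800000

noncomputable section

namespace Groth.Agent.Lib.Helper6.Hyper

open CategoryTheory Limits SimplexCategory Simplicial Opposite SimplicialObject
open Groth.Agent.Lib.Helper6.CoskHtpy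

universe u

variable {C : Type u} [SmallCategory C] [HasPullbacks C] (J : GrothendieckTopology C) (X : C)
    [∀ (n : ℕ) (F : (SimplexCategory.Truncated n)ᵒᵖ ⥤ Limits.FormalCoproduct.{u} (Over X)),
      (SimplexCategory.Truncated.inclusion n).op.HasRightKanExtension F]

theorem refine_exists (K : SimplicialObject (FormalCoproduct.{u} (Over X)))
    (hK : Hyper.IsHypercovering J X K) (n : ℕ)
    (Z : FormalCoproduct.{u} (Over X)) (u : Z ⟶ K.obj (op (SimplexCategory.mk n)))
    (hu : Hyper.IsSRCovering (J.over X) u) :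
    ∃ (L : SimplicialObject (FormalCoproduct.{u} (Over X))) (f : L ⟶ K)
      (g : L.obj (op (SimplexCategory.mk n)) ⟶ Z),
      Hyper.IsHypercovering J X L ∧ g ≫ u = f.app (op (SimplexCategory.mk n)) := by
  let a' : K ⟶ (RR n).obj (K.obj (op ⦋n⦌)) :=
    (evaluationAdjunctionLeft (FormalCoproduct.{u} (Over X)) (op ⦋n⦌)).unit.app K
  let b' : (RR n).obj Z ⟶ (RR n).obj (K.obj (op ⦋n⦌)) := (RR n).map u
  have hP := IsPullback.of_hasPullback a' b'
  refine ⟨pullback a' b', pullback.fst a' b',
    (pullback.snd a' b').app (op ⦋n⦌) ≫ rπ n Z (𝟙 _), ?_, ?_⟩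
  · exact pullback_hypercovering J X a' b' _ _ hP hK (RR_cov (J.over X) n u hu _)
      (fun m Q q1 q2 γ hQ h1 h2 => RR_gamma_cov (J.over X) n m u hu Q q1 q2 γ hQ h1 h2)
  · have hc := congr_app (pullback.condition (f := a') (g := b')) (op ⦋n⦌)
    rw [NatTrans.comp_app, NatTrans.comp_app] at hc
    have h1 : a'.app (op ⦋n⦌) ≫ rπ n (K.obj (op ⦋n⦌)) (𝟙 _) = 𝟙 _ := by
      have : a'.app (op ⦋n⦌) = Pi.lift fun g => K.map g :=
        evaluationAdjunctionLeft_unit_app_app _ _ _ _
      rw [this]
      erw [Pi.lift_π]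
      exact K.map_id _
    rw [Category.assoc, ← RR_mapu_π, ← Category.assoc]
    erw [← hc]
    rw [Category.assoc, h1, Category.comp_id]

end Groth.Agent.Lib.Helper6.Hyper
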