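import Groth.Prelude.Def_Hyper2
import Groth.Agent.Lib.Helper6.Hyper.Refine
import Groth.Agent.Lib.Helper6.Hyper.H0Main
import Mathlib.CategoryTheory.Sites.LocallyInjective
import Mathlib.CategoryTheory.Sites.Sheafification

set_option linter.unusedSectionVars false
set_option linter.unusedVariables false
set_option linter.unusedSimpArgs false
set_option autoImplicit false
set_option linter.style.haveILetI false
set_option maxHeartbeats 800000

noncomputable section

namespace Groth.Agent.Lib.Helper6.Hyper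

open CategoryTheory Limits SimplexCategory Simplicial Opposite SimplicialObject

universe u

variable {C : Type u} [SmallCategory C] [HasPullbacks C] (J : GrothendieckTopology C) (X : C)
    [∀ (n : ℕ) (F : (SimplexCategory.Truncated n)ᵒᵖ ⥤ Limits.FormalCoproduct.{u} (Over X)),
      (SimplexCategory.Truncated.inclusion n).op.HasRightKanExtension F]

/-- Sections of a presheaf with zero sheafification are locally zero. -/
lemma locally_zero (N : Cᵒᵖ ⥤ AddCommGrpCat.{u})
    (hN : IsZero ((presheafToSheaf J AddCommGrpCat.{u}).obj N)) {U : C} (s : N.obj (op U)) :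
    Presheaf.equalizerSieve (F := N) (X := op U) s 0 ∈ J U := by
  apply Presheaf.equalizerSieve_mem J (toSheafify J N)
  have h0 : (𝟙 ((presheafToSheaf J AddCommGrpCat.{u}).obj N)) = 0 := hN.eq_of_src _ _
  have h1 : ∀ x : (sheafify J N).obj (op U), x = 0 := by
    intro x
    have := congrArg (fun (f : (presheafToSheaf J AddCommGrpCat.{u}).obj N ⟶
      (presheafToSheaf J AddCommGrpCat.{u}).obj N) => (f.hom.app (op U)) x) h0
    exact this
  rw [h1 ((toSheafify J N).app (op U) s), h1 ((toSheafify J N).app (op U) 0)]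

variable (N : Cᵒᵖ ⥤ AddCommGrpCat.{u})

/-- The family of all restrictions on which the given sections vanish. -/
def zeroFC (Kp : FormalCoproduct.{u} (Over X))
    (s : ∀ i : Kp.I, N.obj (op (Kp.obj i).left)) : FormalCoproduct.{u} (Over X) where
  I := Σ (i : Kp.I) (Y : Over X), {t : Y ⟶ Kp.obj i // N.map t.left.op (s i) = 0}
  obj j := j.2.1

/-- The structure map of `zeroFC`. -/
def zeroMap (Kp : FormalCoproduct.{u} (Over X))
    (s : ∀ i : Kp.I, N.obj (op (Kp.obj i).left)) : zeroFC X N Kp s ⟶ Kp :=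
  ⟨fun j => j.1, fun j => j.2.2.1⟩

lemma zeroMap_cov (hN : IsZero ((presheafToSheaf J AddCommGrpCat.{u}).obj N))
    (Kp : FormalCoproduct.{u} (Over X))
    (s : ∀ i : Kp.I, N.obj (op (Kp.obj i).left)) :
    Hyper.IsSRCovering (J.over X) (zeroMap X N Kp s) := by
  intro i
  rw [GrothendieckTopology.mem_over_iff]
  refine J.superset_covering ?_ (locally_zero J N hN (s i))
  intro V t ht
  rw [Sieve.overEquiv_iff, Sieve.mem_ofArrows_iff]
  have ht' : N.map t.op (s i) = 0 := by
    have h1 : N.map t.op (s i) = N.map t.op 0 := ht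
    rw [h1, map_zero]
  refine ⟨⟨⟨i, Over.mk (t ≫ (Kp.obj i).hom), ⟨Over.homMk t rfl, ht'⟩⟩, rfl⟩, 𝟙 _, ?_⟩
  simp [zeroMap]
  exact (Category.id_comp _).symm

lemma cechMap_f {K L : SimplicialObject (FormalCoproduct.{u} (Over X))} (f : L ⟶ K) (p : ℕ) :
    (Hyper.cechMap X f N).f p =
      ((FormalCoproduct.evalOp _ _).obj ((Over.forget X).op ⋙ N)).map
        (f.app (op ⦋p⦌)).op := rfl

theorem kill_class (K : SimplicialObject (FormalCoproduct.{u} (Over X)))
    (hK : Hyper.IsHypercovering J X K)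
    (hN : IsZero ((presheafToSheaf J AddCommGrpCat.{u}).obj N))
    (p : ℕ) (ξ : Hyper.cechH X K N p) :
    ∃ (L : SimplicialObject (FormalCoproduct.{u} (Over X))) (f : L ⟶ K),
      Hyper.IsHypercovering J X L ∧ Hyper.cechHMap X f N p ξ = 0 := by
  obtain ⟨z, hz⟩ : ∃ z : (Hyper.cechCx X K N).cycles p,
      (Hyper.cechCx X K N).homologyπ p z = ξ :=
    (AddCommGrpCat.epi_iff_surjective _).1 inferInstance ξ
  let x : ↑(∏ᶜ fun i : (K.obj (op ⦋p⦌)).I =>
      ((Over.forget X).op ⋙ N).obj (op ((K.obj (op ⦋p⦌)).obj i))) :=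
    (Hyper.cechCx X K N).iCycles p z
  let s : ∀ i : (K.obj (op ⦋p⦌)).I, N.obj (op ((K.obj (op ⦋p⦌)).obj i).left) :=
    fun i => (Pi.π (fun i : (K.obj (op ⦋p⦌)).I =>
      ((Over.forget X).op ⋙ N).obj (op ((K.obj (op ⦋p⦌)).obj i))) i) x
  obtain ⟨L, f, g, hL, hg⟩ := refine_exists J X K hK p (zeroFC X N _ s) (zeroMap X N _ s)
    (zeroMap_cov J X N hN _ s)
  refine ⟨L, f, hL, ?_⟩
  rw [← hz]
  change ((Hyper.cechCx X K N).homologyπ p ≫
    HomologicalComplex.homologyMap (Hyper.cechMap X f N) p) z = 0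
  rw [HomologicalComplex.homologyπ_naturality, ConcreteCategory.comp_apply]
  suffices h : (HomologicalComplex.cyclesMap (Hyper.cechMap X f N) p) z = 0 by
    rw [h, map_zero]
  apply (AddCommGrpCat.mono_iff_injective ((Hyper.cechCx X L N).iCycles p)).1 inferInstance
  rw [map_zero]
  change (HomologicalComplex.cyclesMap (Hyper.cechMap X f N) p ≫
    (Hyper.cechCx X L N).iCycles p) z = 0
  rw [HomologicalComplex.cyclesMap_i, ConcreteCategory.comp_apply, cechMap_f]
  change (((FormalCoproduct.evalOp _ _).obj ((Over.forget X).op ⋙ N)).map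
        (f.app (op ⦋p⦌)).op) x = 0
  apply pi_ext
  intro j
  refine Eq.trans ?_ (map_zero _).symm
  have key : ∀ (h : L.obj (op ⦋p⦌) ⟶ K.obj (op ⦋p⦌)), h = g ≫ zeroMap X N _ s →
      (Pi.π (fun i : (L.obj (op ⦋p⦌)).I =>
        ((Over.forget X).op ⋙ N).obj (op ((L.obj (op ⦋p⦌)).obj i))) j)
      ((((FormalCoproduct.evalOp _ _).obj ((Over.forget X).op ⋙ N)).map h.op) x) = 0 := by
    rintro _ rfl
    have h1 : ((FormalCoproduct.evalOp _ _).obj ((Over.forget X).op ⋙ N)).map
        (g ≫ zeroMap X N _ s).op ≫ Pi.π (fun i : (L.obj (op ⦋p⦌)).I =>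
        ((Over.forget X).op ⋙ N).obj (op ((L.obj (op ⦋p⦌)).obj i))) j =
        Pi.π _ ((g ≫ zeroMap X N _ s).f j) ≫
          ((Over.forget X).op ⋙ N).map ((g ≫ zeroMap X N _ s).φ j).op := by
      apply Pi.lift_π
    refine (ConcreteCategory.congr_hom h1 x).trans ?_
    change N.map ((g.φ j).left ≫ ((g.f j).2.2.1).left).op (s (g.f j).1) = 0
    rw [op_comp, Functor.map_comp, ConcreteCategory.comp_apply]
    have hz0 : N.map ((g.f j).2.2.1).left.op (s (g.f j).1) = 0 := (g.f j).2.2.2
    exact (congrArg (N.map (g.φ j).left.op) hz0).trans (map_zero _)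
  exact key _ hg.symm

end Groth.Agent.Lib.Helper6.Hyper
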