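import Groth.Prelude.Def_Hyper

set_option linter.unusedSectionVars false
set_option linter.unusedVariables false
set_option linter.unusedSimpArgs false
set_option autoImplicit false
set_option linter.style.haveILetI false
set_option maxHeartbeats 400000

noncomputable section

namespace Groth.Agent.Lib.Helper6.Hyper

open CategoryTheory Limits Opposite

universe u

variable {D : Type u} [SmallCategory D] (J : GrothendieckTopology D)

/-- The sieve of morphisms along which a point of `L` lifts to `K`. -/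
def liftSieve {K L : FormalCoproduct.{u} D} (f : K ⟶ L) {Y : D}
    (y : (FormalCoproduct.incl D).obj Y ⟶ L) : Sieve Y where
  arrows Y' t := ∃ z : (FormalCoproduct.incl D).obj Y' ⟶ K,
    z ≫ f = (FormalCoproduct.incl D).map t ≫ y
  downward_closed := by
    rintro Y' Y'' t ⟨z, hz⟩ g
    refine ⟨(FormalCoproduct.incl D).map g ≫ z, ?_⟩
    rw [Category.assoc, hz, Functor.map_comp, Category.assoc]

lemma mem_liftSieve {K L : FormalCoproduct.{u} D} (f : K ⟶ L) {Y : D}
    (y : (FormalCoproduct.incl D).obj Y ⟶ L) {Y' : D} (t : Y' ⟶ Y) :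
    liftSieve f y t ↔ ∃ z : (FormalCoproduct.incl D).obj Y' ⟶ K,
      z ≫ f = (FormalCoproduct.incl D).map t ≫ y := Iff.rfl

/-- Every morphism from a representable is of the form `fromIncl`. -/
lemma exists_fromIncl {L : FormalCoproduct.{u} D} {Y : D}
    (y : (FormalCoproduct.incl D).obj Y ⟶ L) :
    ∃ (m : L.I) (b : Y ⟶ L.obj m), y = FormalCoproduct.Hom.fromIncl m b :=
  ⟨y.f PUnit.unit, y.φ PUnit.unit, (FormalCoproduct.Hom.fromIncl_asSigma y).symm⟩

lemma fromIncl_comp {K L : FormalCoproduct.{u} D} (f : K ⟶ L) {Y : D} (k : K.I)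
    (e : Y ⟶ K.obj k) :
    FormalCoproduct.Hom.fromIncl k e ≫ f =
      FormalCoproduct.Hom.fromIncl (f.f k) (e ≫ f.φ k) := rfl

lemma incl_map_fromIncl {L : FormalCoproduct.{u} D} {Y Y' : D} (t : Y' ⟶ Y) (m : L.I)
    (b : Y ⟶ L.obj m) :
    (FormalCoproduct.incl D).map t ≫ FormalCoproduct.Hom.fromIncl m b =
      FormalCoproduct.Hom.fromIncl m (t ≫ b) := rfl

lemma fromIncl_eq_iff {L : FormalCoproduct.{u} D} {Y : D} (m m' : L.I) (b : Y ⟶ L.obj m)
    (b' : Y ⟶ L.obj m') :
    FormalCoproduct.Hom.fromIncl m b = FormalCoproduct.Hom.fromIncl m' b' ↔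
      ∃ h : m = m', b ≫ eqToHom (congrArg L.obj h) = b' := by
  constructor
  · intro h
    have h1 : m = m' := congrFun (congrArg FormalCoproduct.Hom.f h) PUnit.unit
    subst h1
    refine ⟨rfl, ?_⟩
    have h2 := (FormalCoproduct.hom_ext_iff _ _).1 h
    obtain ⟨_, h3⟩ := h2
    have h4 : b ≫ 𝟙 _ = b' := h3 PUnit.unit
    simpa using h4
  · rintro ⟨rfl, h⟩
    simp only [eqToHom_refl, Category.comp_id] at h
    rw [h]

lemma liftSieve_fromIncl {K L : FormalCoproduct.{u} D} (f : K ⟶ L) {Y : D} (m : L.I)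
    (b : Y ⟶ L.obj m) :
    liftSieve f (FormalCoproduct.Hom.fromIncl m b) =
      Sieve.pullback b (Sieve.ofArrows (fun i : {i : K.I // f.f i = m} => K.obj i.1)
        (fun i => f.φ i.1 ≫ eqToHom (congrArg L.obj i.2))) := by
  ext Y' t
  rw [Sieve.pullback_apply, Sieve.mem_ofArrows_iff, mem_liftSieve]
  constructor
  · rintro ⟨z, hz⟩
    obtain ⟨k, e, rfl⟩ := exists_fromIncl z
    rw [fromIncl_comp, incl_map_fromIncl, fromIncl_eq_iff] at hz
    obtain ⟨h, hz⟩ := hz
    exact ⟨⟨k, h⟩, e, by rw [← hz, Category.assoc]⟩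
  · rintro ⟨⟨k, hk⟩, e, he⟩
    refine ⟨FormalCoproduct.Hom.fromIncl k e, ?_⟩
    rw [fromIncl_comp, incl_map_fromIncl, fromIncl_eq_iff]
    exact ⟨hk, by rw [he, Category.assoc]⟩

/-- Local lifting characterization of SR coverings. -/
lemma isSRCovering_iff {K L : FormalCoproduct.{u} D} (f : K ⟶ L) :
    Hyper.IsSRCovering J f ↔
      ∀ (Y : D) (y : (FormalCoproduct.incl D).obj Y ⟶ L), liftSieve f y ∈ J Y := by
  constructor
  · intro h Y y
    obtain ⟨m, b, rfl⟩ := exists_fromIncl y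
    rw [liftSieve_fromIncl]
    exact J.pullback_stable _ (h _)
  · intro h m
    have := h (L.obj m) (FormalCoproduct.Hom.fromIncl m (𝟙 _))
    rw [liftSieve_fromIncl, Sieve.pullback_id] at this
    exact this

end Groth.Agent.Lib.Helper6.Hyper
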