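import Groth.Agent.Lib.Helper6.Hyper.ImgFact
import Groth.Agent.Lib.Helper6.Hyper.SRCov
import Groth.Agent.Lib.Helper6.Hyper.Cosk0
import Mathlib.CategoryTheory.Adjunction.Evaluation

set_option linter.unusedSectionVars false
set_option linter.unusedVariables false
set_option linter.unusedSimpArgs false
set_option autoImplicit false
set_option linter.style.haveILetI false
set_option maxHeartbeats 400000

noncomputable section

namespace Groth.Agent.Lib.Helper6.Hyper

open CategoryTheory Limits SimplexCategory Simplicial Opposite SimplicialObject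
open Groth.Agent.Lib.Helper6.CoskHtpy

universe w u

section Sieves

variable {D : Type u} [SmallCategory D] (J : GrothendieckTopology D)

/-- The intersection of a family of sieves. -/
def iSieve {ι : Type w} {Y : D} (S : ι → Sieve Y) : Sieve Y where
  arrows Y' t := ∀ i, S i t
  downward_closed h g i := (S i).downward_closed (h i) g

lemma iSieve_mem {ι : Type w} [Finite ι] {Y : D} (S : ι → Sieve Y) (h : ∀ i, S i ∈ J Y) :
    iSieve S ∈ J Y := by
  revert S
  refine Finite.induction_empty_option (P := fun ι => ∀ (S : ι → Sieve Y), (∀ i, S i ∈ J Y) →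
    iSieve S ∈ J Y) ?_ ?_ ?_ ι
  · intro α β e ih S hS
    refine J.superset_covering ?_ (ih (fun a => S (e a)) (fun a => hS _))
    intro Y' t ht b
    have := ht (e.symm b)
    simpa using this
  · intro S _
    refine J.superset_covering ?_ (J.top_mem Y)
    intro Y' t _ i
    exact i.elim
  · intro α _ ih S hS
    refine J.superset_covering ?_
      (J.intersection_covering (hS none) (ih (fun a => S (some a)) (fun a => hS _)))
    rintro Y' t ⟨h1, h2⟩ o
    cases o with
    | none => exact h1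
    | some a => exact h2 a

end Sieves

variable {D : Type u} [SmallCategory D] (J : GrothendieckTopology D)
  [HasFiniteLimits (FormalCoproduct.{u} D)]

instance hasProdHom (a b : SimplexCategoryᵒᵖ) :
    HasProductsOfShape (a ⟶ b) (FormalCoproduct.{u} D) :=
  inferInstance

/-- The right adjoint of evaluation at `[n]`. -/
abbrev RR (n : ℕ) : FormalCoproduct.{u} D ⥤ SimplicialObject (FormalCoproduct.{u} D) :=
  evaluationRightAdjoint (FormalCoproduct.{u} D) (op ⦋n⦌)

/-- Projections of `RR`. -/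
abbrev rπ (n : ℕ) (U : FormalCoproduct.{u} D) {Δ : SimplexCategoryᵒᵖ} (g : Δ ⟶ op ⦋n⦌) :
    ((RR n).obj U).obj Δ ⟶ U :=
  Pi.π (fun _ : (Δ ⟶ op ⦋n⦌) => U) g

lemma RR_map_π (n : ℕ) (U : FormalCoproduct.{u} D) {Δ Δ' : SimplexCategoryᵒᵖ} (f : Δ ⟶ Δ')
    (g : Δ' ⟶ op ⦋n⦌) :
    ((RR n).obj U).map f ≫ rπ n U g = rπ n U (f ≫ g) := by
  apply Pi.lift_π

lemma RR_mapu_π (n : ℕ) {Z W : FormalCoproduct.{u} D} (u : Z ⟶ W) {Δ : SimplexCategoryᵒᵖ}
    (g : Δ ⟶ op ⦋n⦌) :
    ((RR n).map u).app Δ ≫ rπ n W g = rπ n Z g ≫ u := by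
  apply Pi.lift_π

lemma RR_hom_ext (n : ℕ) (U : FormalCoproduct.{u} D) {Δ : SimplexCategoryᵒᵖ}
    {T : FormalCoproduct.{u} D} {a b : T ⟶ ((RR n).obj U).obj Δ}
    (h : ∀ g : Δ ⟶ op ⦋n⦌, a ≫ rπ n U g = b ≫ rπ n U g) : a = b :=
  Pi.hom_ext _ _ h

/-- Products of SR coverings are SR coverings. -/
lemma RR_cov (n : ℕ) {Z W : FormalCoproduct.{u} D} (u : Z ⟶ W)
    (hu : Hyper.IsSRCovering J u) (Δ : SimplexCategoryᵒᵖ) :
    Hyper.IsSRCovering J (((RR n).map u).app Δ) := by
  rw [isSRCovering_iff]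
  intro Y y
  have hS := iSieve_mem J (fun g : (Δ ⟶ op ⦋n⦌) => liftSieve u (y ≫ rπ n W g))
    (fun g => (isSRCovering_iff J u).1 hu Y _)
  refine J.superset_covering ?_ hS
  intro Y' t ht
  choose z hz using ht
  refine ⟨Pi.lift z, ?_⟩
  apply RR_hom_ext
  intro g
  rw [Category.assoc, RR_mapu_π, ← Category.assoc]
  erw [Pi.lift_π]
  rw [hz g, Category.assoc]

end Groth.Agent.Lib.Helper6.Hyper
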