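import Groth.Agent.Lib.Helper6.Hyper.RAdj

set_option linter.unusedSectionVars false
set_option linter.unusedVariables false
set_option linter.unusedSimpArgs false
set_option autoImplicit false
set_option linter.style.haveILetI false
set_option maxHeartbeats 400000

noncomputable section

namespace Groth.Agent.Lib.Helper6.Hyper

open CategoryTheory Limits SimplexCategory Simplicial Opposite SimplicialObject
open Groth.Agent.Lib.Helper6.CoskHtpy

universe u

variable {E : Type (u + 1)} [Category.{u} E] [HasFiniteLimits E] (m : ℕ)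
  [∀ (F : (SimplexCategory.Truncated m)ᵒᵖ ⥤ E),
    (SimplexCategory.Truncated.inclusion m).op.HasRightKanExtension F]

/-- A structured arrow from a simplex of small length. -/
def saMk {Δ : SimplexCategory} (Δ' : SimplexCategory) (h : Δ'.len ≤ m) (θ : Δ' ⟶ Δ) :
    StructuredArrow (op Δ) (Lf m) :=
  StructuredArrow.mk (Y := op (⟨Δ', h⟩ : SimplexCategory.Truncated m)) θ.op

/-- Projection attached to a simplex of small length. -/
def prs (K : SimplicialObject E) {Δ : SimplexCategory} (Δ' : SimplexCategory) (h : Δ'.len ≤ m)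
    (θ : Δ' ⟶ Δ) : ((cosk m).obj K).obj (op Δ) ⟶ K.obj (op Δ') :=
  pr m K (saMk m Δ' h θ)

lemma prs_map (K : SimplicialObject E) {Δ : SimplexCategory} (A' B' : SimplexCategory)
    (hA : A'.len ≤ m) (hB : B'.len ≤ m) (θA : A' ⟶ Δ) (θB : B' ⟶ Δ) (ψ : B' ⟶ A')
    (hψ : ψ ≫ θA = θB) :
    prs m K A' hA θA ≫ K.map ψ.op = prs m K B' hB θB := by
  subst hψ
  unfold prs pr saMk
  let h : (op (⟨A', hA⟩ : SimplexCategory.Truncated m)) ⟶ op ⟨B', hB⟩ :=
    (ObjectProperty.homMk ψ : (⟨B', hB⟩ : SimplexCategory.Truncated m) ⟶ ⟨A', hA⟩).op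
  have e3 := (eps m K).naturality h
  have e4 : ((cosk m).obj K).map (ψ ≫ θA).op =
      ((cosk m).obj K).map θA.op ≫ ((cosk m).obj K).map ψ.op := by
    rw [← Functor.map_comp]; rfl
  change (((cosk m).obj K).map θA.op ≫
    (eps m K).app (op (⟨A', hA⟩ : SimplexCategory.Truncated m))) ≫ K.map ψ.op =
    ((cosk m).obj K).map (ψ ≫ θA).op ≫
      (eps m K).app (op (⟨B', hB⟩ : SimplexCategory.Truncated m))
  rw [e4, Category.assoc, Category.assoc]
  congr 1
  exact e3.symm

lemma prs_eq_pr (K : SimplicialObject E) {Δ : SimplexCategory}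
    (A : StructuredArrow (op Δ) (Lf m)) :
    pr m K A = prs m K A.right.unop.obj A.right.unop.property A.hom.unop := rfl

end Groth.Agent.Lib.Helper6.Hyper
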