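import Groth.Agent.Lib.Helper6.Hyper.RAdj2

set_option linter.unusedSectionVars false
set_option linter.unusedVariables false
set_option linter.unusedSimpArgs false
set_option autoImplicit false
set_option linter.style.haveILetI false
set_option maxHeartbeats 800000

noncomputable section

namespace Groth.Agent.Lib.Helper6.Hyper

open CategoryTheory Limits SimplexCategory Simplicial Opposite SimplicialObject
open Groth.Agent.Lib.Helper6.CoskHtpy

universe u

variable {D : Type u} [SmallCategory D] (J : GrothendieckTopology D)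
  [HasFiniteLimits (FormalCoproduct.{u} D)]
  (n m : ℕ)
  [∀ (F : (SimplexCategory.Truncated m)ᵒᵖ ⥤ FormalCoproduct.{u} D),
    (SimplexCategory.Truncated.inclusion m).op.HasRightKanExtension F]

/-- Well-definedness of the components of a point of the coskeleton of `RR`. -/
lemma W_lemma (Z : FormalCoproduct.{u} D) {Δ' : SimplexCategory} (h : Δ'.len ≤ m)
    (γ' : ⦋n⦌ ⟶ Δ') (θ : Δ' ⟶ ⦋m + 1⦌)
    (hρ : ¬ Function.Surjective (γ' ≫ θ).toOrderHom) :
    prs m ((RR n).obj Z) Δ' h θ ≫ rπ n Z γ'.op =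
      prs m ((RR n).obj Z) (image (γ' ≫ θ)) (len_image_le _ hρ) (image.ι (γ' ≫ θ)) ≫
        rπ n Z (factorThruImage (γ' ≫ θ)).op := by
  obtain ⟨I', hI', e', i', ψ₂, h1, h2, h3⟩ := zigzag h γ' θ
  have hL : prs m ((RR n).obj Z) Δ' h θ ≫ rπ n Z γ'.op =
      prs m ((RR n).obj Z) I' hI' (i' ≫ θ) ≫ rπ n Z e'.op := by
    rw [← prs_map m ((RR n).obj Z) Δ' I' h hI' θ (i' ≫ θ) i' rfl, Category.assoc, RR_map_π,
      ← op_comp, h1]
  have hR : prs m ((RR n).obj Z) (image (γ' ≫ θ)) (len_image_le _ hρ) (image.ι (γ' ≫ θ)) ≫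
        rπ n Z (factorThruImage (γ' ≫ θ)).op =
      prs m ((RR n).obj Z) I' hI' (i' ≫ θ) ≫ rπ n Z e'.op := by
    rw [← prs_map m ((RR n).obj Z) (image (γ' ≫ θ)) I' (len_image_le _ hρ) hI'
      (image.ι (γ' ≫ θ)) (i' ≫ θ) ψ₂ h3, Category.assoc, RR_map_π, ← op_comp, h2]
  rw [hL, hR]

variable {Z W : FormalCoproduct.{u} D} (u : Z ⟶ W)

theorem RR_gamma_cov (hu : Hyper.IsSRCovering J u) (Q : FormalCoproduct.{u} D)
    (q1 : Q ⟶ ((RR n).obj W).obj (op ⦋m + 1⦌))
    (q2 : Q ⟶ ((cosk m).obj ((RR n).obj Z)).obj (op ⦋m + 1⦌))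
    (γ : ((RR n).obj Z).obj (op ⦋m + 1⦌) ⟶ Q)
    (hQ : IsPullback q1 q2 (((coskAdj m).unit.app ((RR n).obj W)).app (op ⦋m + 1⦌))
      (((cosk m).map ((RR n).map u)).app (op ⦋m + 1⦌)))
    (h1 : γ ≫ q1 = ((RR n).map u).app (op ⦋m + 1⦌))
    (h2 : γ ≫ q2 = ((coskAdj m).unit.app ((RR n).obj Z)).app (op ⦋m + 1⦌)) :
    Hyper.IsSRCovering J γ := by
  classical
  rw [isSRCovering_iff]
  intro Y y
  have hS := iSieve_mem J (fun g : (op ⦋m + 1⦌ ⟶ op ⦋n⦌) =>
    liftSieve u ((y ≫ q1) ≫ rπ n W g)) (fun g => (isSRCovering_iff J u).1 hu Y _)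
  refine J.superset_covering ?_ hS
  intro Y' t ht
  choose z' hz' using ht
  let zc : ∀ g : (op ⦋m + 1⦌ ⟶ op ⦋n⦌), ((FormalCoproduct.incl D).obj Y' ⟶ Z) := fun g =>
    if hg : Function.Surjective g.unop.toOrderHom then z' g
    else (FormalCoproduct.incl D).map t ≫ (y ≫ q2) ≫
      prs m ((RR n).obj Z) (image g.unop) (len_image_le g.unop hg) (image.ι g.unop) ≫
        rπ n Z (factorThruImage g.unop).op
  refine ⟨Pi.lift zc, ?_⟩
  apply hQ.hom_ext
  · rw [Category.assoc, h1, Category.assoc]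
    apply RR_hom_ext
    intro g
    rw [Category.assoc, RR_mapu_π, ← Category.assoc]
    erw [Pi.lift_π]
    by_cases hg : Function.Surjective g.unop.toOrderHom
    · simp only [zc, dif_pos hg]
      rw [hz' g]
      simp only [Category.assoc]
    · simp only [zc, dif_neg hg]
      simp only [Category.assoc]
      congr 2
      -- key computation
      have k1 : rπ n Z (factorThruImage g.unop).op ≫ u =
          ((RR n).map u).app (op (image g.unop)) ≫ rπ n W (factorThruImage g.unop).op :=
        (RR_mapu_π n u _).symm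
      have k2 : prs m ((RR n).obj Z) (image g.unop) (len_image_le g.unop hg) (image.ι g.unop) ≫
          ((RR n).map u).app (op (image g.unop)) =
          ((cosk m).map ((RR n).map u)).app (op ⦋m + 1⦌) ≫
            prs m ((RR n).obj W) (image g.unop) (len_image_le g.unop hg) (image.ι g.unop) :=
        (cosk_map_pr m ((RR n).map u) (saMk m (image g.unop) (len_image_le g.unop hg)
          (image.ι g.unop))).symm
      have k3 : ((coskAdj m).unit.app ((RR n).obj W)).app (op ⦋m + 1⦌) ≫
          prs m ((RR n).obj W) (image g.unop) (len_image_le g.unop hg) (image.ι g.unop) =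
          ((RR n).obj W).map (image.ι g.unop).op :=
        unit_pr m ((RR n).obj W) (saMk m (image g.unop) (len_image_le g.unop hg)
          (image.ι g.unop))
      rw [k1, ← Category.assoc (prs m _ _ _ _), k2, Category.assoc, ← Category.assoc q2,
        ← hQ.w, Category.assoc, ← Category.assoc _ (prs m _ _ _ _), k3, RR_map_π, ← op_comp,
        image.fac]
      rfl
  · rw [Category.assoc, h2, Category.assoc]
    apply pr_hom_ext m ((RR n).obj Z)
    intro A
    rw [Category.assoc, unit_pr, Category.assoc]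
    apply RR_hom_ext
    intro γ'
    rw [Category.assoc, RR_map_π]
    erw [Pi.lift_π]
    have hg : ¬ Function.Surjective (A.hom ≫ γ').unop.toOrderHom :=
      not_surj_of_factor A.right.unop.property γ'.unop A.hom.unop
    simp only [zc, dif_neg hg]
    simp only [Category.assoc]
    congr 3
    rw [prs_eq_pr]
    exact (W_lemma n m Z A.right.unop.property γ'.unop A.hom.unop hg).symm

end Groth.Agent.Lib.Helper6.Hyper
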